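import Groth.Agent.HTopLib.Square
import Groth.Agent.Chow.Strata
import Groth.Agent.ProjProper.Basic

/-!
# ph coverings: composition and base change

A proper surjective morphism to a quasi-compact open of a separated quasi-compact scheme extends to a proper
surjective morphism (Chow's lemma and scheme theoretic image).
-/

set_option autoImplicit false
set_option linter.style.haveILetI false

universe w w' u

open CategoryTheory CategoryTheory.Limits AlgebraicGeometry Topology TopologicalSpace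

namespace Groth.Agent.HTopPh

/-- A proper surjective morphism over an open extends to a proper surjective morphism over the whole
scheme, up to a factorization over the open. -/
theorem exists_proper_extend {U : Scheme.{u}} [CompactSpace U] [QuasiSeparatedSpace U] (O : U.Opens)
    (hO : IsCompact (O : Set U)) {V : Scheme.{u}} (f : V ⟶ O.toScheme) [IsProper f] [Surjective f] :
    ∃ (B : Scheme.{u}) (b : B ⟶ U), IsProper b ∧ Surjective b ∧
      ∀ (W : Scheme.{u}) (w : W ⟶ B), Set.range (w ≫ b) ⊆ (O : Set U) →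
        ∃ l : W ⟶ V, l ≫ f ≫ O.ι = w ≫ b := by
  haveI : CompactSpace O.toScheme := isCompact_iff_compactSpace.1 hO
  haveI : QuasiCompact O.ι := by
    haveI : QuasiCompact (O.ι ≫ U.toSpecΓ) := (HasAffineProperty.iff_of_isAffine (P := @QuasiCompact)).mpr ‹CompactSpace O.toScheme›
    exact QuasiCompact.of_comp O.ι U.toSpecΓ
  obtain ⟨n, X', π, j, hj, hjb, hπ, hπs⟩ := Chow.chow_surjective (f ≫ O.ι)
  haveI := hj
  haveI := hπ
  haveI := hπs
  haveI : IsProper (CohB1.ProjSpaceOver.toBase n U) := ProjProper.Basic.isProper_toBase n U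
  haveI : QuasiCompact (j ≫ CohB1.ProjSpaceOver.toBase n U) := by rw [hjb]; infer_instance
  haveI : QuasiCompact j := QuasiCompact.of_comp j (CohB1.ProjSpaceOver.toBase n U)
  let h : X' ⟶ j.image := j.toImage
  let b₀ : j.image ⟶ U := j.imageι ≫ CohB1.ProjSpaceOver.toBase n U
  have hh : h ≫ b₀ = π ≫ f ≫ O.ι := by
    rw [show h ≫ b₀ = (j.toImage ≫ j.imageι) ≫ CohB1.ProjSpaceOver.toBase n U from
      (Category.assoc _ _ _).symm, Scheme.Hom.toImage_imageι, hjb]
  -- over `O` the image is the whole of `X'`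
  have key : ∀ x : j.image, b₀ x ∈ O → x ∈ Set.range h := by
    intro x hx
    let P : j.image.Opens := b₀ ⁻¹ᵁ O
    have hr : Set.range h ⊆ Set.range P.ι := by
      rw [Scheme.Opens.range_ι]
      rintro _ ⟨y, rfl⟩
      show (b₀ (h y)) ∈ O
      rw [← Scheme.Hom.comp_apply, hh, Scheme.Hom.comp_apply, Scheme.Hom.comp_apply]
      exact (f (π y)).2
    let h' : X' ⟶ P.toScheme := IsOpenImmersion.lift P.ι h hr
    have hh' : h' ≫ (b₀ ∣_ O) = π ≫ f := by
      rw [← cancel_mono O.ι, Category.assoc, morphismRestrict_ι, IsOpenImmersion.lift_fac_assoc, hh,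
        Category.assoc]
    haveI : IsProper (h' ≫ (b₀ ∣_ O)) := by rw [hh']; infer_instance
    haveI : IsProper h' :=
      MorphismProperty.of_postcomp (W := @IsProper) (W' := @IsSeparated) h' (b₀ ∣_ O) inferInstance ‹_›
    have hcl : IsClosed (Set.range h') := h'.isClosedMap.isClosed_range
    have hd : DenseRange h := h.denseRange
    let x' : P.toScheme := ⟨x, hx⟩
    have hx' : x' ∈ closure (Set.range h') := by
      rw [P.ι.isOpenEmbedding.isInducing.closure_eq_preimage_closure_image, ← Set.range_comp]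
      show P.ι x' ∈ closure (Set.range (P.ι ∘ h'))
      rw [show (P.ι ∘ h' : X' → j.image) = h from funext fun y => by
        show P.ι (h' y) = h y
        rw [← Scheme.Hom.comp_apply, IsOpenImmersion.lift_fac]]
      exact hd _
    rw [hcl.closure_eq] at hx'
    obtain ⟨y, hy⟩ := hx'
    refine ⟨y, ?_⟩
    rw [show h = h' ≫ P.ι from (IsOpenImmersion.lift_fac _ _ _).symm, Scheme.Hom.comp_apply, hy]
    rfl
  let C : Scheme.IdealSheafData U := .vanishingIdeal ⟨(O : Set U)ᶜ, O.isOpen.isClosed_compl⟩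
  have hC : Set.range C.subschemeι = (O : Set U)ᶜ := by
    rw [Scheme.IdealSheafData.range_subschemeι]
    simp [C]
  refine ⟨j.image ⨿ C.subscheme, coprod.desc b₀ C.subschemeι,
    HTopLib.isProper_coprodDesc b₀ C.subschemeι, ⟨fun x => ?_⟩, fun W w hw => ?_⟩
  · by_cases hx : x ∈ O
    · obtain ⟨v, hv⟩ := f.surjective ⟨x, hx⟩
      obtain ⟨y, rfl⟩ := π.surjective v
      refine ⟨(coprod.inl : j.image ⟶ j.image ⨿ C.subscheme) (h y), ?_⟩
      rw [← Scheme.Hom.comp_apply, coprod.inl_desc, ← Scheme.Hom.comp_apply, hh,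
        Scheme.Hom.comp_apply, Scheme.Hom.comp_apply, hv]
      rfl
    · obtain ⟨y, hy⟩ : x ∈ Set.range C.subschemeι := by rw [hC]; exact hx
      refine ⟨(coprod.inr : C.subscheme ⟶ j.image ⨿ C.subscheme) y, ?_⟩
      rw [← Scheme.Hom.comp_apply, coprod.inr_desc, hy]
  · have hr : Set.range w ⊆ Set.range (h ≫ (coprod.inl : j.image ⟶ j.image ⨿ C.subscheme)) := by
      rintro _ ⟨a, rfl⟩
      have ha : (coprod.desc b₀ C.subschemeι) (w a) ∈ O := hw ⟨a, Scheme.Hom.comp_apply _ _ _⟩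
      obtain ⟨(y | y), hy⟩ := (coprodMk j.image C.subscheme).surjective (w a)
      · rw [coprodMk_inl] at hy
        rw [← hy, ← Scheme.Hom.comp_apply, coprod.inl_desc] at ha
        obtain ⟨z, hz⟩ := key y ha
        exact ⟨z, by rw [Scheme.Hom.comp_apply, hz, hy]⟩
      · rw [coprodMk_inr] at hy
        rw [← hy, ← Scheme.Hom.comp_apply, coprod.inr_desc] at ha
        exact absurd ha (show C.subschemeι y ∉ O from hC.le ⟨y, rfl⟩)
    let l := IsOpenImmersion.lift (h ≫ (coprod.inl : j.image ⟶ j.image ⨿ C.subscheme)) w hr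
    refine ⟨l ≫ π, ?_⟩
    have hl : l ≫ h ≫ coprod.inl = w := IsOpenImmersion.lift_fac _ _ _
    rw [← hl, Category.assoc, Category.assoc, Category.assoc, coprod.inl_desc, hh]

/-- Finitely many proper surjective morphisms over opens are dominated by one over the whole scheme. -/
theorem exists_proper_factor {U : Scheme.{u}} [CompactSpace U] [QuasiSeparatedSpace U] {J : Type w}
    [Finite J] (O : J → U.Opens) (hO : ∀ j, IsCompact (O j : Set U)) (V : J → Scheme.{u})
    (f : ∀ j, V j ⟶ (O j).toScheme) (hf : ∀ j, IsProper (f j)) (hs : ∀ j, Surjective (f j)) :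
    ∃ (B : Scheme.{u}) (b : B ⟶ U), IsProper b ∧ Surjective b ∧
      ∀ (j : J) (W : Scheme.{u}) (w : W ⟶ B), Set.range (w ≫ b) ⊆ (O j : Set U) →
        ∃ l : W ⟶ V j, l ≫ f j ≫ (O j).ι = w ≫ b := by
  classical
  cases nonempty_fintype J
  suffices ∀ s : Finset J, ∃ (B : Scheme.{u}) (b : B ⟶ U), IsProper b ∧ Surjective b ∧
      ∀ j ∈ s, ∀ (W : Scheme.{u}) (w : W ⟶ B), Set.range (w ≫ b) ⊆ (O j : Set U) →
        ∃ l : W ⟶ V j, l ≫ f j ≫ (O j).ι = w ≫ b by
    obtain ⟨B, b, h₁, h₂, h₃⟩ := this Finset.univ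
    exact ⟨B, b, h₁, h₂, fun j => h₃ j (Finset.mem_univ _)⟩
  intro s
  induction s using Finset.induction_on with
  | empty => exact ⟨U, 𝟙 U, inferInstance, inferInstance, by simp⟩
  | insert i s hi ih =>
    obtain ⟨B, b, hb, hbs, hB⟩ := ih
    haveI := hf i
    haveI := hs i
    obtain ⟨C, c, hc, hcs, hC⟩ := exists_proper_extend (O i) (hO i) (f i)
    haveI : Surjective (pullback.fst b c) := MorphismProperty.pullback_fst _ _ hcs
    refine ⟨pullback b c, pullback.fst b c ≫ b, inferInstance, inferInstance, fun j hj W w hw => ?_⟩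
    rcases Finset.mem_insert.1 hj with rfl | hjs
    · obtain ⟨l, hl⟩ := hC W (w ≫ pullback.snd b c)
        (by rwa [Category.assoc, ← pullback.condition])
      exact ⟨l, by rw [hl, Category.assoc, ← pullback.condition]⟩
    · obtain ⟨l, hl⟩ := hB j hjs W (w ≫ pullback.fst b c) (by rwa [Category.assoc])
      exact ⟨l, by rw [hl, Category.assoc]⟩

/-- A composite of standard ph coverings is refined by a standard ph covering. -/
theorem exists_isStandardPh_bind {T : Scheme.{u}} {E : PreZeroHypercover.{w} T}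
    (hE : HTop.IsStandardPh E) {F : ∀ j, PreZeroHypercover.{w'} (E.X j)}
    (hF : ∀ j, HTop.IsStandardPh (F j)) :
    ∃ G : PreZeroHypercover.{0} T, HTop.IsStandardPh G ∧
      ∀ k, ∃ (j : E.I₀) (i : (F j).I₀) (l : G.X k ⟶ (F j).X i), l ≫ (F j).f i ≫ E.f j = G.f k := by
  classical
  obtain ⟨U, q, ι, hq, hqs, hι, hfac, hcov⟩ := hE.exists_proper
  haveI := hE.isAffine
  haveI := hE.finite_index
  haveI : ∀ j, IsAffine (E.X j) := hE.isAffine_obj
  choose V g κ hg hgs hκ hκfac hκcov using fun j => (hF j).exists_proper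
  haveI : CompactSpace U := QuasiCompact.compactSpace_of_compactSpace q
  haveI : QuasiSeparatedSpace U := quasiSeparatedSpace_of_quasiSeparated q
  let O : E.I₀ → U.Opens := fun j => (ι j).opensRange
  obtain ⟨B, b, hb, hbs, hB⟩ := exists_proper_factor O (fun j => isCompact_range (ι j).continuous) V
    (fun j => g j ≫ (ι j).isoOpensRange.hom)
    (fun j => inferInstanceAs (IsProper (g j ≫ (ι j).isoOpensRange.hom)))
    (fun j => inferInstanceAs (Surjective (g j ≫ (ι j).isoOpensRange.hom)))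
  have local_ : ∀ z : B, ∃ A : B.Opens, IsAffineOpen A ∧ z ∈ A ∧
      ∃ (j : E.I₀) (i : (F j).I₀) (l : A.toScheme ⟶ (F j).X i),
        l ≫ (F j).f i ≫ E.f j = A.ι ≫ b ≫ q := by
    intro z
    obtain ⟨j, hj⟩ := hcov (b z)
    let P : B.Opens := b ⁻¹ᵁ O j
    obtain ⟨l, hl⟩ := hB j P P.ι (by rintro _ ⟨a, rfl⟩; exact a.2)
    have hzP : z ∈ P := hj
    obtain ⟨i, hi⟩ := hκcov j (l ⟨z, hzP⟩)
    haveI := hκ j i
    let Q : B.Opens := P.ι ''ᵁ (l ⁻¹ᵁ (κ j i).opensRange)
    obtain ⟨A, hA, hzA, hAQ⟩ := exists_isAffineOpen_mem_and_subset (U := Q) (x := z) ⟨⟨z, hzP⟩, hi, rfl⟩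
    have hAP : A ≤ P := fun a ha => by
      obtain ⟨a', -, rfl⟩ := hAQ ha
      exact a'.2
    have hr : Set.range (B.homOfLE hAP ≫ l) ⊆ Set.range (κ j i) := by
      rintro _ ⟨a, rfl⟩
      obtain ⟨a', ha', he⟩ := hAQ a.2
      have : B.homOfLE hAP a = a' := P.ι.isOpenEmbedding.injective (by
        rw [← Scheme.Hom.comp_apply, Scheme.homOfLE_ι]; exact he.symm)
      rw [Scheme.Hom.comp_apply, this]
      exact ha'
    refine ⟨A, hA, hzA, j, i, IsOpenImmersion.lift (κ j i) (B.homOfLE hAP ≫ l) hr, ?_⟩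
    rw [← hκfac j i, ← hfac j, Category.assoc, IsOpenImmersion.lift_fac_assoc, Category.assoc,
      ← Scheme.Hom.isoOpensRange_hom_ι (ι j)]
    simp only [Category.assoc] at hl ⊢
    rw [reassoc_of% hl, Scheme.homOfLE_ι_assoc]
  choose A hA hzA hAl using local_
  haveI : IsProper (b ≫ q) := inferInstance
  haveI : Surjective (b ≫ q) := inferInstance
  haveI : CompactSpace B := QuasiCompact.compactSpace_of_compactSpace (b ≫ q)
  obtain ⟨t, ht⟩ := (isCompact_univ (X := B)).elim_finite_subcover (fun z => (A z : Set B))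
    (fun z => (A z).2) (fun z _ => Set.mem_iUnion.2 ⟨z, hzA z⟩)
  obtain ⟨n, ⟨e⟩⟩ := Finite.exists_equiv_fin ↥t
  let z : Fin n → B := fun k => (e.symm k).1
  refine ⟨⟨Fin n, fun k => A (z k), fun k => (A (z k)).ι ≫ b ≫ q⟩,
    ⟨inferInstance, inferInstanceAs (Finite (Fin n)), fun k => hA (z k), B, b ≫ q, fun k => (A (z k)).ι,
      ‹_›, ‹_›, fun k => inferInstanceAs (IsOpenImmersion (A (z k)).ι), fun k => rfl, fun x => ?_⟩,
    fun k => hAl (z k)⟩
  obtain ⟨z₀, hz₀, hx⟩ : ∃ z₀ ∈ t, x ∈ A z₀ := by simpa using ht (Set.mem_univ x)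
  exact ⟨e ⟨z₀, hz₀⟩, ⟨x, by simpa [z] using hx⟩, rfl⟩

/-- An open covering of an affine scheme is refined by a standard ph covering (of the identity). -/
theorem exists_isStandardPh_zariski {Z : Scheme.{u}} [IsAffine Z] (P : Z.Opens → Prop)
    (hP : ∀ z : Z, ∃ W : Z.Opens, IsAffineOpen W ∧ z ∈ W ∧ P W) :
    ∃ (n : ℕ) (W : Fin n → Z.Opens), (∀ k, IsAffineOpen (W k)) ∧ (∀ k, P (W k)) ∧
      HTop.IsStandardPh (⟨Fin n, fun k => W k, fun k => (W k).ι⟩ : PreZeroHypercover.{0} Z) := by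
  choose W hW hzW hPW using hP
  obtain ⟨t, ht⟩ := (isCompact_univ (X := Z)).elim_finite_subcover (fun z => (W z : Set Z))
    (fun z => (W z).2) (fun z _ => Set.mem_iUnion.2 ⟨z, hzW z⟩)
  obtain ⟨n, ⟨e⟩⟩ := Finite.exists_equiv_fin ↥t
  refine ⟨n, fun k => W (e.symm k).1, fun k => hW _, fun k => hPW _,
    ⟨inferInstance, inferInstanceAs (Finite (Fin n)), fun k => hW _, Z, 𝟙 Z, fun k => (W (e.symm k).1).ι,
      inferInstance, inferInstance, fun k => inferInstanceAs (IsOpenImmersion (W (e.symm k).1).ι),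
      fun k => Category.comp_id _, fun x => ?_⟩⟩
  obtain ⟨z₀, hz₀, hx⟩ : ∃ z₀ ∈ t, x ∈ W z₀ := by simpa using ht (Set.mem_univ x)
  exact ⟨e ⟨z₀, hz₀⟩, ⟨x, by simpa using hx⟩, rfl⟩

/-- A ph covering is refined over every affine scheme mapping to the target. -/
theorem exists_standard_refining {T : Scheme.{u}} {E : PreZeroHypercover.{w} T}
    (hE : HTop.IsPhCover E) {Z : Scheme.{u}} [IsAffine Z] (h : Z ⟶ T) :
    ∃ F : PreZeroHypercover.{0} Z, HTop.IsStandardPh F ∧ HTop.RefinesOver h F E := by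
  obtain ⟨n, W, hW, hWU, hC⟩ := exists_isStandardPh_zariski
    (fun W : Z.Opens => ∃ U : T.affineOpens, W ≤ h ⁻¹ᵁ U.1) fun z => by
      obtain ⟨U, hU, hzU, -⟩ := exists_isAffineOpen_mem_and_subset (Opens.mem_top (h z))
      obtain ⟨W, hW, hzW, hle⟩ := exists_isAffineOpen_mem_and_subset (U := h ⁻¹ᵁ U) hzU
      exact ⟨W, hW, hzW, ⟨U, hU⟩, hle⟩
  choose U hle using hWU
  choose F hF hFE using fun k => hE.2 (U k)
  haveI : ∀ k, IsAffine (W k).toScheme := hW
  obtain ⟨G, hG, hGl⟩ := exists_isStandardPh_bind hC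
    (fun k => HTopLib.isStandardPh_pullback (h.resLE (U k).1 (W k) (hle k)) (hF k))
  refine ⟨G, hG, fun m => ?_⟩
  obtain ⟨k, j, l, hl⟩ := hGl m
  obtain ⟨i, r, hr⟩ := hFE k j
  let g := h.resLE (U k).1 (W k) (hle k)
  let l' : G.X m ⟶ pullback g ((F k).f j) := l
  have hl' : l' ≫ pullback.fst g ((F k).f j) ≫ (W k).ι = G.f m := hl
  refine ⟨i, l' ≫ pullback.snd g ((F k).f j) ≫ r, ?_⟩
  rw [Category.assoc, Category.assoc, hr, ← pullback.condition_assoc, Scheme.Hom.resLE_comp_ι,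
    ← hl', Category.assoc, Category.assoc]

theorem isPhCover_pullback {T T' : Scheme.{u}} (g : T' ⟶ T) {E : PreZeroHypercover.{w} T}
    (hE : HTop.IsPhCover E) : HTop.IsPhCover (E.pullback₁ g) := by
  refine ⟨fun i => ?_, fun U => ?_⟩
  · haveI := hE.1 i
    exact inferInstanceAs (LocallyOfFiniteType (pullback.fst g (E.f i)))
  · haveI : IsAffine (U.1 : Scheme.{u}) := U.2
    obtain ⟨F, hF, hFE⟩ := exists_standard_refining hE (U.1.ι ≫ g)
    refine ⟨F, hF, fun j => ?_⟩
    obtain ⟨i, l, hl⟩ := hFE j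
    exact ⟨i, pullback.lift (F.f j ≫ U.1.ι) l (by rw [Category.assoc, hl]), pullback.lift_fst _ _ _⟩

theorem isPhCover_bind {T : Scheme.{u}} {E : PreZeroHypercover.{w} T} (hE : HTop.IsPhCover E)
    {F : ∀ i, PreZeroHypercover.{w'} (E.X i)} (hF : ∀ i, HTop.IsPhCover (F i)) :
    HTop.IsPhCover (E.bind F) := by
  refine ⟨?_, fun U => ?_⟩
  · rintro ⟨i, k⟩
    haveI := hE.1 i
    haveI := (hF i).1 k
    exact inferInstanceAs (LocallyOfFiniteType ((F i).f k ≫ E.f i))
  · obtain ⟨G, hG, hGE⟩ := hE.2 U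
    choose i l hl using hGE
    have : ∀ j, ∃ H : PreZeroHypercover.{0} (G.X j), HTop.IsStandardPh H ∧
        HTop.RefinesOver (l j) H (F (i j)) := fun j => by
      haveI := hG.isAffine_obj j
      exact exists_standard_refining (hF (i j)) (l j)
    choose H hH hHF using this
    obtain ⟨K, hK, hKl⟩ := exists_isStandardPh_bind hG hH
    refine ⟨K, hK, fun m => ?_⟩
    obtain ⟨j, k, r, hr⟩ := hKl m
    obtain ⟨a, p, hp⟩ := hHF j k
    refine ⟨⟨i j, a⟩, r ≫ p, ?_⟩
    show (r ≫ p) ≫ (F (i j)).f a ≫ E.f (i j) = K.f m ≫ U.1.ι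
    rw [Category.assoc, reassoc_of% hp, hl, ← hr, Category.assoc, Category.assoc]

end Groth.Agent.HTopPh
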