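import Groth.Agent.HTopLib.LimitV
import Groth.Agent.HTopLib.Sheaf
import Groth.Agent.LimLib.FPSystem

/-!
# Limit preserving h sheaves on schemes over a base are V sheaves
-/

set_option autoImplicit false
set_option linter.style.haveILetI false

universe w w' u

open CategoryTheory CategoryTheory.Limits AlgebraicGeometry Topology TopologicalSpace Opposite

namespace Groth.Agent.HTopPh.VSheaf

variable {S : Scheme.{u}} {F : (Over S)ᵒᵖ ⥤ Type w}

/-- An open covering of an `S`-scheme is an h covering. -/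
theorem isSheafFor_openCover (h1 : HTop.IsHSheafOver S F) (X : Over S) (𝒰 : Scheme.OpenCover.{u} X.left) :
    Presieve.IsSheafFor F (Presieve.ofArrows (fun i => Over.mk (𝒰.f i ≫ X.hom))
      (fun i => (Over.homMk (𝒰.f i) rfl : Over.mk (𝒰.f i ≫ X.hom) ⟶ X))) := by
  refine h1 _ ?_
  rw [Presieve.map_ofArrows]
  refine (HTop.presieve₀_mem_hPrecoverage_iff 𝒰.toPreZeroHypercover).2 ⟨fun i => ?_, ?_⟩
  · haveI : IsOpenImmersion (𝒰.f i) := inferInstance
    infer_instance
  · refine HTopLib.isVCover_of_fpqc _ fun i => ?_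
    haveI : IsOpenImmersion (𝒰.f i) := inferInstance
    infer_instance

theorem isSheafFor_hSingleton (h1 : HTop.IsHSheafOver S F) {X Y : Over S} (f : X ⟶ Y)
    (hf : HTop.IsHCover (PreZeroHypercover.singleton.{0} f.left)) :
    Presieve.IsSheafFor F (Presieve.singleton f) := by
  refine h1 _ ?_
  rw [Presieve.map_singleton]
  have := (HTop.presieve₀_mem_hPrecoverage_iff _).2 hf
  rwa [PreZeroHypercover.presieve₀_singleton] at this

/-- The key case: a standard V covering by one affine scheme. -/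
theorem isSheafFor_affine_singleton (h1 : HTop.IsHSheafOver S F)
    (h2 : ∀ (I : Type u) [SmallCategory I] [IsCofiltered I] (D : I ⥤ Over S),
      (∀ i, IsAffine (D.obj i).left) → ∀ (c : Cone D), IsLimit ((Over.forget S).mapCone c) →
        Nonempty (IsColimit (F.mapCocone c.op)))
    {X C : Over S} [IsAffine X.left] [IsAffine C.left] (f : C ⟶ X)
    (hf : HTop.HasValLift (PreZeroHypercover.singleton.{0} f.left)) :
    Presieve.IsSheafFor F (Presieve.singleton f) := by
  obtain ⟨P⟩ := LimLib.nonempty_fpSystem f.left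
  obtain ⟨i₀, hi₀⟩ := P.eventually_isAffineHom
  obtain ⟨I, _, _, _, σ, c, hσ, ⟨hc⟩, ⟨e⟩⟩ := P.exists_tail i₀
  let D : Iᵒᵖ ⥤ Over X.left := σ.monotone.functor.op ⋙ P.D
  let c : Cone D := c.extend e.inv
  have hc : IsLimit ((Over.forget X.left).mapCone c) :=
    (LimLib.isLimitForget (hc.extendIso e.inv)).some
  have hDa : ∀ i, IsAffine (D.obj i).left := fun i => by
    have hhom : IsAffineHom (P.D.obj (op (σ i.unop))).hom := hi₀ _ (homOfLE (hσ i.unop)).op
    exact @isAffine_of_isAffineHom _ _ (P.D.obj (op (σ i.unop))).hom hhom ‹IsAffine X.left›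
  have hcov : ∀ i, HTop.IsHCover (PreZeroHypercover.singleton.{0} (D.obj i).hom) := fun i =>
    ⟨fun _ => P.lfp _, HTopLib.isVCover_of_isStandardV ⟨‹_›, inferInstanceAs (Finite PUnit),
      fun _ => hDa i, HTopLib.hasValLift_of_cone D c hf i⟩⟩
  -- the system over `S`, and its square
  let DS : Iᵒᵖ ⥤ Over S := D ⋙ Over.map X.hom
  let cS : Cone DS :=
    { pt := C
      π :=
        { app := fun i => Over.homMk (c.π.app i).left (by
            show (c.π.app i).left ≫ (D.obj i).hom ≫ X.hom = C.hom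
            rw [← Category.assoc, Over.w (c.π.app i)]
            exact Over.w f)
          naturality := fun i j a => by
            ext1
            exact (congrArg CommaMorphism.left (c.π.naturality a) :) } }
  have hcS : IsLimit ((Over.forget S).mapCone cS) := hc
  obtain ⟨hcol⟩ := h2 Iᵒᵖ DS (fun i => hDa i) cS hcS
  let hom : ∀ i, DS.obj i ⟶ X := fun i => Over.homMk (D.obj i).hom rfl
  have hπ : ∀ i, cS.π.app i ≫ hom i = f := fun i => Over.OverMorphism.ext (Over.w (c.π.app i))
  have htr : ∀ {i j : Iᵒᵖ} (a : i ⟶ j), DS.map a ≫ hom j = hom i := fun a =>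
    Over.OverMorphism.ext (Over.w (D.map a))
  let Q : Iᵒᵖ → Over S := fun i =>
    Over.mk (pullback.fst (D.obj i).hom (D.obj i).hom ≫ (D.obj i).hom ≫ X.hom)
  let q₁ : ∀ i, Q i ⟶ DS.obj i := fun i => Over.homMk (pullback.fst _ _) rfl
  let q₂ : ∀ i, Q i ⟶ DS.obj i := fun i => Over.homMk (pullback.snd _ _) (by
    show pullback.snd _ _ ≫ (D.obj i).hom ≫ X.hom = pullback.fst _ _ ≫ (D.obj i).hom ≫ X.hom
    rw [pullback.condition_assoc])
  let tQ : ∀ {i j : Iᵒᵖ} (_ : i ⟶ j), Q i ⟶ Q j := fun {i j} a =>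
    Over.homMk (pullback.lift (pullback.fst _ _ ≫ (D.map a).left) (pullback.snd _ _ ≫ (D.map a).left)
      (by rw [Category.assoc, Category.assoc, Over.w (D.map a)]; exact pullback.condition)) (by
      show pullback.lift _ _ _ ≫ pullback.fst _ _ ≫ (D.obj j).hom ≫ X.hom =
        pullback.fst _ _ ≫ (D.obj i).hom ≫ X.hom
      rw [pullback.lift_fst_assoc, Category.assoc]
      exact congrArg (pullback.fst _ _ ≫ ·) ((Category.assoc _ _ _).symm.trans
        (congrArg (· ≫ X.hom) (Over.w (D.map a)))))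
  have hq₁ : ∀ {i j : Iᵒᵖ} (a : i ⟶ j), tQ a ≫ q₁ j = q₁ i ≫ DS.map a := fun a =>
    Over.OverMorphism.ext (pullback.lift_fst _ _ _)
  have hq₂ : ∀ {i j : Iᵒᵖ} (a : i ⟶ j), tQ a ≫ q₂ j = q₂ i ≫ DS.map a := fun a =>
    Over.OverMorphism.ext (pullback.lift_snd _ _ _)
  have hext : ∀ {W : Over S} {i : Iᵒᵖ} {g g' : W ⟶ Q i}, g ≫ q₁ i = g' ≫ q₁ i → g ≫ q₂ i = g' ≫ q₂ i →
      g = g' := fun h h' =>
    Over.OverMorphism.ext (pullback.hom_ext (congrArg CommaMorphism.left h) (congrArg CommaMorphism.left h'))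
  let DQ : Iᵒᵖ ⥤ Over S :=
    { obj := Q
      map := fun a => tQ a
      map_id := fun i => hext (by rw [hq₁, DS.map_id, Category.comp_id, Category.id_comp])
        (by rw [hq₂, DS.map_id, Category.comp_id, Category.id_comp])
      map_comp := fun a b => hext (by rw [hq₁, Category.assoc, hq₁, DS.map_comp, ← Category.assoc,
          ← Category.assoc, hq₁])
        (by rw [hq₂, Category.assoc, hq₂, DS.map_comp, ← Category.assoc, ← Category.assoc, hq₂]) }
  let R : Over S := Over.mk (pullback.fst f.left f.left ≫ C.hom)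
  let r₁ : R ⟶ C := Over.homMk (pullback.fst _ _) rfl
  let r₂ : R ⟶ C := Over.homMk (pullback.snd _ _) (by
    show pullback.snd f.left f.left ≫ C.hom = pullback.fst f.left f.left ≫ C.hom
    rw [← Over.w f, pullback.condition_assoc])
  have hr : r₁ ≫ f = r₂ ≫ f := Over.OverMorphism.ext pullback.condition
  let πQ : ∀ i, R ⟶ Q i := fun i => Over.homMk
    (pullback.lift (pullback.fst f.left f.left ≫ (c.π.app i).left) (pullback.snd f.left f.left ≫ (c.π.app i).left)
      (by rw [Category.assoc, Category.assoc, Over.w (c.π.app i)]; exact pullback.condition)) (by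
      show pullback.lift _ _ _ ≫ pullback.fst _ _ ≫ (D.obj i).hom ≫ X.hom = pullback.fst _ _ ≫ C.hom
      rw [pullback.lift_fst_assoc, Category.assoc]
      exact congrArg (pullback.fst _ _ ≫ ·) (Over.w (cS.π.app i)))
  have hπ₁ : ∀ i, πQ i ≫ q₁ i = r₁ ≫ cS.π.app i := fun i =>
    Over.OverMorphism.ext (pullback.lift_fst _ _ _)
  have hπ₂ : ∀ i, πQ i ≫ q₂ i = r₂ ≫ cS.π.app i := fun i =>
    Over.OverMorphism.ext (pullback.lift_snd _ _ _)
  have hw : ∀ {i j : Iᵒᵖ} (a : i ⟶ j), cS.π.app i ≫ DS.map a = cS.π.app j := fun a => cS.w a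
  let cQ : Cone DQ :=
    { pt := R
      π :=
        { app := πQ
          naturality := fun i j a => by
            show 𝟙 R ≫ πQ j = πQ i ≫ tQ a
            rw [Category.id_comp]
            exact (hext (by rw [Category.assoc, hq₁, reassoc_of% (hπ₁ i), hw, hπ₁])
              (by rw [Category.assoc, hq₂, reassoc_of% (hπ₂ i), hw, hπ₂])).symm } }
  have hcQ : IsLimit ((Over.forget S).mapCone cQ) := by
    refine Nonempty.some ⟨IsLimit.ofExistsUnique fun T => ?_⟩
    let t₁ : Cone (D ⋙ Over.forget X.left) :=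
      { pt := T.pt
        π :=
          { app := fun i => T.π.app i ≫ pullback.fst (D.obj i).hom (D.obj i).hom
            naturality := fun i j a => by
              show 𝟙 T.pt ≫ T.π.app j ≫ _ = (T.π.app i ≫ _) ≫ (D.map a).left
              rw [Category.id_comp, ← T.w a, Category.assoc, Category.assoc]
              exact congrArg (T.π.app i ≫ ·) (congrArg CommaMorphism.left (hq₁ a)) } }
    let t₂ : Cone (D ⋙ Over.forget X.left) :=
      { pt := T.pt
        π :=
          { app := fun i => T.π.app i ≫ pullback.snd (D.obj i).hom (D.obj i).hom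
            naturality := fun i j a => by
              show 𝟙 T.pt ≫ T.π.app j ≫ _ = (T.π.app i ≫ _) ≫ (D.map a).left
              rw [Category.id_comp, ← T.w a, Category.assoc, Category.assoc]
              exact congrArg (T.π.app i ≫ ·) (congrArg CommaMorphism.left (hq₂ a)) } }
    let a : T.pt ⟶ C.left := hc.lift t₁
    let b : T.pt ⟶ C.left := hc.lift t₂
    have ha : ∀ i, a ≫ (c.π.app i).left = T.π.app i ≫ pullback.fst _ _ := fun i => hc.fac t₁ i
    have hb : ∀ i, b ≫ (c.π.app i).left = T.π.app i ≫ pullback.snd _ _ := fun i => hc.fac t₂ i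
    have hab : a ≫ f.left = b ≫ f.left := by
      obtain ⟨i⟩ : Nonempty Iᵒᵖ := IsCofiltered.nonempty
      rw [← show (c.π.app i).left ≫ (D.obj i).hom = f.left from Over.w (c.π.app i), reassoc_of% (ha i),
        reassoc_of% (hb i)]
      exact congrArg (T.π.app i ≫ ·) pullback.condition
    refine ⟨pullback.lift a b hab, fun i => ?_, fun m hm => ?_⟩
    · apply pullback.hom_ext
      · show (pullback.lift a b hab ≫ (πQ i).left) ≫ pullback.fst _ _ = T.π.app i ≫ pullback.fst _ _
        rw [Category.assoc]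
        exact (congrArg (pullback.lift a b hab ≫ ·) (congrArg CommaMorphism.left (hπ₁ i))).trans
          ((pullback.lift_fst_assoc _ _ _ _).trans (ha i))
      · show (pullback.lift a b hab ≫ (πQ i).left) ≫ pullback.snd _ _ = T.π.app i ≫ pullback.snd _ _
        rw [Category.assoc]
        exact (congrArg (pullback.lift a b hab ≫ ·) (congrArg CommaMorphism.left (hπ₂ i))).trans
          ((pullback.lift_snd_assoc _ _ _ _).trans (hb i))
    · apply pullback.hom_ext
      · rw [pullback.lift_fst]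
        refine hc.hom_ext fun i => ?_
        show (m ≫ pullback.fst _ _) ≫ (c.π.app i).left = a ≫ (c.π.app i).left
        rw [ha, ← hm i, Category.assoc]
        exact (Category.assoc _ _ _).symm.trans ((Category.assoc _ _ _).trans
          (congrArg (m ≫ ·) (congrArg CommaMorphism.left (hπ₁ i)).symm)) |>.trans (Category.assoc _ _ _).symm
      · rw [pullback.lift_snd]
        refine hc.hom_ext fun i => ?_
        show (m ≫ pullback.snd _ _) ≫ (c.π.app i).left = b ≫ (c.π.app i).left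
        rw [hb, ← hm i, Category.assoc]
        exact (Category.assoc _ _ _).symm.trans ((Category.assoc _ _ _).trans
          (congrArg (m ≫ ·) (congrArg CommaMorphism.left (hπ₂ i)).symm)) |>.trans (Category.assoc _ _ _).symm
  obtain ⟨hcolQ⟩ := h2 Iᵒᵖ DQ (fun i => by
    haveI := hDa i
    show IsAffine (pullback (D.obj i).hom (D.obj i).hom)
    infer_instance) cQ hcQ
  rw [Presieve.isSheafFor_singleton]
  intro x hx
  obtain ⟨⟨i⟩, (xi : F.obj (op (DS.obj i))), (hxi : F.map (cS.π.app i).op xi = x)⟩ :=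
    Types.jointly_surjective _ hcol x
  have hR : F.map r₁.op x = F.map r₂.op x := hx r₁ r₂ hr
  have hRi : F.map (πQ i).op (F.map (q₁ i).op xi) = F.map (πQ i).op (F.map (q₂ i).op xi) := by
    rw [← ConcreteCategory.comp_apply, ← ConcreteCategory.comp_apply, ← Functor.map_comp,
      ← Functor.map_comp, ← op_comp, ← op_comp, hπ₁, hπ₂, op_comp, op_comp, Functor.map_comp,
      Functor.map_comp, ConcreteCategory.comp_apply, ConcreteCategory.comp_apply, hxi, hR]
  obtain ⟨⟨k⟩, ak, hk⟩ := (Types.FilteredColimit.isColimit_eq_iff' hcolQ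
    (i := op i) (F.map (q₁ i).op xi) (F.map (q₂ i).op xi)).1 hRi
  let a : k ⟶ i := ak.unop
  let xk : F.obj (op (DS.obj k)) := F.map (DS.map a).op xi
  have hxk : F.map (cS.π.app k).op xk = x := by
    rw [← ConcreteCategory.comp_apply, ← Functor.map_comp, ← op_comp, hw, hxi]
  have hk' : F.map (q₁ k).op xk = F.map (q₂ k).op xk := by
    have e : F.map (tQ a).op (F.map (q₁ i).op xi) = F.map (tQ a).op (F.map (q₂ i).op xi) := hk
    rw [← ConcreteCategory.comp_apply, ← ConcreteCategory.comp_apply, ← Functor.map_comp,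
      ← Functor.map_comp, ← op_comp, ← op_comp] at e ⊢
    rwa [← hq₁, ← hq₂]
  have sheaf_k := Presieve.isSheafFor_singleton.1 (isSheafFor_hSingleton h1 (hom k) (hcov k))
  obtain ⟨t, ht, -⟩ := sheaf_k xk fun {Z} p₁ p₂ hp => by
    let L : Z ⟶ Q k := Over.homMk (pullback.lift p₁.left p₂.left (congrArg CommaMorphism.left hp)) (by
      show pullback.lift _ _ _ ≫ pullback.fst _ _ ≫ (D.obj k).hom ≫ X.hom = Z.hom
      rw [pullback.lift_fst_assoc]
      exact Over.w p₁)
    have h₁ : L ≫ q₁ k = p₁ := Over.OverMorphism.ext (pullback.lift_fst _ _ _)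
    have h₂ : L ≫ q₂ k = p₂ := Over.OverMorphism.ext (pullback.lift_snd _ _ _)
    rw [← h₁, ← h₂, op_comp, op_comp, Functor.map_comp, Functor.map_comp, ConcreteCategory.comp_apply,
      ConcreteCategory.comp_apply, hk']
  have htx : F.map f.op t = x := by
    rw [← hπ k, op_comp, Functor.map_comp, ConcreteCategory.comp_apply, ht, hxk]
  refine ⟨t, htx, fun t' ht' => ?_⟩
  have e' : F.map (cS.π.app i).op (F.map (hom i).op t') = F.map (cS.π.app i).op (F.map (hom i).op t) := by
    rw [← ConcreteCategory.comp_apply, ← ConcreteCategory.comp_apply, ← Functor.map_comp, ← op_comp,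
      hπ, htx]
    exact ht'
  obtain ⟨⟨m⟩, am, hm⟩ := (Types.FilteredColimit.isColimit_eq_iff' hcol
    (i := op i) (F.map (hom i).op t') (F.map (hom i).op t)).1 e'
  have e : F.map (DS.map am.unop).op (F.map (hom i).op t') =
      F.map (DS.map am.unop).op (F.map (hom i).op t) := hm
  rw [← ConcreteCategory.comp_apply, ← ConcreteCategory.comp_apply, ← Functor.map_comp, ← op_comp,
    htr] at e
  exact (isSheafFor_hSingleton h1 (hom m) (hcov m)).isSeparatedFor.ext fun Y g hg => by
    obtain ⟨⟩ := hg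
    exact e

section main

variable (h1 : HTop.IsHSheafOver S F)
  (h2 : ∀ (I : Type u) [SmallCategory I] [IsCofiltered I] (D : I ⥤ Over S),
    (∀ i, IsAffine (D.obj i).left) → ∀ (c : Cone D), IsLimit ((Over.forget S).mapCone c) →
      Nonempty (IsColimit (F.mapCocone c.op)))

include h1 in
theorem ext_openCover {X : Over S} (𝒰 : Scheme.OpenCover.{u} X.left) {t t' : F.obj (op X)}
    (h : ∀ i, F.map (Over.homMk (𝒰.f i) rfl : Over.mk (𝒰.f i ≫ X.hom) ⟶ X).op t =
      F.map (Over.homMk (𝒰.f i) rfl : Over.mk (𝒰.f i ≫ X.hom) ⟶ X).op t') : t = t' :=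
  (isSheafFor_openCover h1 X 𝒰).isSeparatedFor.ext fun Y g hg => by
    obtain ⟨i⟩ := hg
    exact h i

include h1 h2 in
theorem isSheafFor_standard {X : Over S} [IsAffine X.left] (E : PreZeroHypercover.{u} X.left)
    (hE : HTop.IsStandardV E) :
    Presieve.IsSheafFor F (Presieve.ofArrows (fun j => Over.mk (E.f j ≫ X.hom))
      (fun j => (Over.homMk (E.f j) rfl : Over.mk (E.f j ≫ X.hom) ⟶ X))) := by
  haveI := hE.finite_index
  haveI := hE.isAffine_obj
  let C : Over S := Over.mk (Sigma.desc E.f ≫ X.hom)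
  let f : C ⟶ X := Over.homMk (Sigma.desc E.f) rfl
  haveI : IsAffine C.left := inferInstanceAs (IsAffine (∐ E.X))
  have hf : HTop.HasValLift (PreZeroHypercover.singleton.{0} f.left) := by
    intro V _ _ g
    obtain ⟨W, hW, hW', φ, hφ, j, g', hg'⟩ := hE.lift V g
    refine ⟨W, hW, hW', φ, hφ, PUnit.unit, g' ≫ Sigma.ι E.X j, ?_⟩
    show (g' ≫ Sigma.ι E.X j) ≫ Sigma.desc E.f = _
    rw [Category.assoc, Sigma.ι_desc, hg']
  have h := Presieve.isSheafFor_singleton.1 (isSheafFor_affine_singleton h1 h2 f hf)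
  rw [Presieve.isSheafFor_arrows_iff]
  intro x hx
  let ι : ∀ j, Over.mk (E.f j ≫ X.hom) ⟶ C := fun j => Over.homMk (Sigma.ι E.X j) (by
    show Sigma.ι E.X j ≫ Sigma.desc E.f ≫ X.hom = E.f j ≫ X.hom
    rw [← Category.assoc, Sigma.ι_desc])
  have hι : ∀ j, ι j ≫ f = (Over.homMk (E.f j) rfl : Over.mk (E.f j ≫ X.hom) ⟶ X) := fun j =>
    Over.OverMorphism.ext (Sigma.ι_desc _ _)
  let 𝒱 : Scheme.OpenCover.{u} C.left := sigmaOpenCover E.X
  have ev : ∀ j, ∃ e : Over.mk (E.f j ≫ X.hom) ≅ Over.mk (𝒱.f j ≫ C.hom), e.hom.left = 𝟙 (E.X j) :=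
    fun j => ⟨Over.isoMk (Iso.refl _) (by
      show 𝟙 _ ≫ Sigma.ι E.X j ≫ Sigma.desc E.f ≫ X.hom = E.f j ≫ X.hom
      rw [Category.id_comp, ← Category.assoc, Sigma.ι_desc]), rfl⟩
  choose e he using ev
  let v : ∀ j, Over.mk (𝒱.f j ≫ C.hom) ⟶ C := fun j => Over.homMk (𝒱.f j) rfl
  have hev' : ∀ j, (e j).hom ≫ v j = ι j := fun j => Over.OverMorphism.ext (by
    show (e j).hom.left ≫ 𝒱.f j = Sigma.ι E.X j
    rw [he]; exact Category.id_comp _)
  let y' : ∀ j, F.obj (op (Over.mk (𝒱.f j ≫ C.hom))) := fun j => F.map (e j).inv.op (x j)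
  have hv : ∀ j, (e j).inv ≫ ι j = v j := fun j => by rw [← hev', Iso.inv_hom_id_assoc]
  obtain ⟨y, hy, hyu⟩ := (Presieve.isSheafFor_arrows_iff _ _).1 (isSheafFor_openCover h1 C 𝒱) y'
    fun i j Z a b hab => by
      show F.map a.op (F.map (e i).inv.op (x i)) = F.map b.op (F.map (e j).inv.op (x j))
      rw [← ConcreteCategory.comp_apply, ← ConcreteCategory.comp_apply, ← Functor.map_comp,
        ← Functor.map_comp, ← op_comp, ← op_comp]
      refine hx i j Z _ _ ?_
      refine ((congrArg ((a ≫ (e i).inv) ≫ ·) (hι i).symm).trans ?_).trans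
        (congrArg ((b ≫ (e j).inv) ≫ ·) (hι j))
      show (a ≫ (e i).inv) ≫ ι i ≫ f = (b ≫ (e j).inv) ≫ ι j ≫ f
      rw [Category.assoc, Category.assoc, reassoc_of% (hv i), reassoc_of% (hv j)]
      exact (Category.assoc _ _ _).symm.trans ((congrArg (· ≫ f) hab).trans (Category.assoc _ _ _))
  have hyι : ∀ j, F.map (ι j).op y = x j := fun j => by
    rw [← hev' j, op_comp, Functor.map_comp, ConcreteCategory.comp_apply, hy j]
    show F.map (e j).hom.op (F.map (e j).inv.op (x j)) = x j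
    rw [← ConcreteCategory.comp_apply, ← Functor.map_comp, ← op_comp, Iso.hom_inv_id, op_id,
      CategoryTheory.Functor.map_id]
    rfl
  obtain ⟨t, ht, htu⟩ := h y fun {Z} p₁ p₂ hp => by
    let W : E.I₀ × E.I₀ → Z.left.Opens := fun ij =>
      p₁.left ⁻¹ᵁ (Sigma.ι E.X ij.1).opensRange ⊓ p₂.left ⁻¹ᵁ (Sigma.ι E.X ij.2).opensRange
    have hW : IsOpenCover W := by
      rw [IsOpenCover, eq_top_iff]
      intro z _
      rw [Opens.mem_iSup]
      obtain ⟨i, a, ha⟩ := (sigmaOpenCover E.X).exists_eq (p₁.left z)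
      obtain ⟨j, b, hb⟩ := (sigmaOpenCover E.X).exists_eq (p₂.left z)
      exact ⟨(i, j), ⟨a, ha⟩, ⟨b, hb⟩⟩
    refine ext_openCover h1 (Scheme.openCoverOfIsOpenCover Z.left W hW) fun ij => ?_
    obtain ⟨i, j⟩ := ij
    have hr₁ : Set.range ((W (i, j)).ι ≫ p₁.left) ⊆ Set.range (Sigma.ι E.X i) := by
      rintro _ ⟨a, rfl⟩
      exact a.2.1
    have hr₂ : Set.range ((W (i, j)).ι ≫ p₂.left) ⊆ Set.range (Sigma.ι E.X j) := by
      rintro _ ⟨a, rfl⟩
      exact a.2.2
    let P : Over S := Over.mk ((W (i, j)).ι ≫ Z.hom)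
    let w : P ⟶ Z := Over.homMk (W (i, j)).ι rfl
    let a : P ⟶ Over.mk (E.f i ≫ X.hom) := Over.homMk (IsOpenImmersion.lift _ _ hr₁) (by
      show _ ≫ E.f i ≫ X.hom = (W (i, j)).ι ≫ Z.hom
      rw [← Sigma.ι_desc E.f i, Category.assoc, IsOpenImmersion.lift_fac_assoc, Category.assoc]
      exact congrArg ((W (i, j)).ι ≫ ·) (Over.w p₁))
    let b : P ⟶ Over.mk (E.f j ≫ X.hom) := Over.homMk (IsOpenImmersion.lift _ _ hr₂) (by
      show _ ≫ E.f j ≫ X.hom = (W (i, j)).ι ≫ Z.hom
      rw [← Sigma.ι_desc E.f j, Category.assoc, IsOpenImmersion.lift_fac_assoc, Category.assoc]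
      exact congrArg ((W (i, j)).ι ≫ ·) (Over.w p₂))
    have ha : a ≫ ι i = w ≫ p₁ := Over.OverMorphism.ext (IsOpenImmersion.lift_fac _ _ _)
    have hb : b ≫ ι j = w ≫ p₂ := Over.OverMorphism.ext (IsOpenImmersion.lift_fac _ _ _)
    show F.map w.op (F.map p₁.op y) = F.map w.op (F.map p₂.op y)
    rw [← ConcreteCategory.comp_apply, ← ConcreteCategory.comp_apply, ← Functor.map_comp,
      ← Functor.map_comp, ← op_comp, ← op_comp, ← ha, ← hb, op_comp, op_comp, Functor.map_comp,
      Functor.map_comp, ConcreteCategory.comp_apply, ConcreteCategory.comp_apply, hyι i, hyι j]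
    refine hx i j _ a b ?_
    refine ((congrArg (a ≫ ·) (hι i).symm).trans ?_).trans (congrArg (b ≫ ·) (hι j))
    show a ≫ ι i ≫ f = b ≫ ι j ≫ f
    rw [reassoc_of% ha, reassoc_of% hb, hp]
  refine ⟨t, fun j => ?_, fun t' ht' => htu t' (hyu _ fun j => ?_)⟩
  · rw [← hι j, op_comp, Functor.map_comp, ConcreteCategory.comp_apply, ht, hyι]
  · show F.map (v j).op (F.map f.op t') = F.map (e j).inv.op (x j)
    rw [← hv j, op_comp, Functor.map_comp, ConcreteCategory.comp_apply, ← ht' j, ← hι j, op_comp,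
      Functor.map_comp, ConcreteCategory.comp_apply]

/-- The sieve on schemes of a sieve on schemes over `S`. -/
abbrev IsVSieveOver {X : Over S} (R : Sieve X) : Prop := HTopLib.IsVSieve (Sieve.overEquiv X R)

theorem IsVSieveOver.pullback {X Y : Over S} {R : Sieve X} (h : IsVSieveOver R) (f : Y ⟶ X) :
    IsVSieveOver (R.pullback f) := by
  rw [IsVSieveOver, Sieve.overEquiv_pullback]
  exact HTopLib.IsVSieve.pullback h f.left

theorem exists_standard_mem {X : Over S} {R : Sieve X} (h : IsVSieveOver R) {W : Scheme.{u}}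
    [IsAffine W] (g : W ⟶ X.left) :
    ∃ E : PreZeroHypercover.{u} W, HTop.IsStandardV E ∧
      ∀ j, R.pullback (Over.homMk g rfl : Over.mk (g ≫ X.hom) ⟶ X)
        (Over.homMk (E.f j) rfl : Over.mk (E.f j ≫ g ≫ X.hom) ⟶ Over.mk (g ≫ X.hom)) := by
  have h' := IsVSieveOver.pullback h (Over.homMk g rfl : Over.mk (g ≫ X.hom) ⟶ X)
  obtain ⟨E₀, hE₀, hmem⟩ := h' W (𝟙 W)
  obtain ⟨E, hE, he⟩ := HTopLib.exists_isStandardV_family.{0, u} E₀ hE₀
  refine ⟨E, hE, fun j => ?_⟩
  refine (Sieve.overEquiv_iff _ _).1 ?_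
  have hj : E₀.presieve₀ (E.f j) := he ▸ ⟨j⟩
  generalize E.X j = Z, E.f j = r at hj
  obtain ⟨k⟩ := hj
  have := hmem k
  rwa [Category.comp_id] at this

include h1 h2 in
theorem isSeparatedFor_vSieve {X : Over S} {R : Sieve X} (hR : IsVSieveOver R) :
    Presieve.IsSeparatedFor F R.arrows := by
  intro x t₁ t₂ h₁ h₂
  refine ext_openCover h1 X.left.affineCover fun i => ?_
  let g : Over.mk (X.left.affineCover.f i ≫ X.hom) ⟶ X := Over.homMk (X.left.affineCover.f i) rfl
  haveI : IsAffine (X.left.affineCover.X i) := Scheme.isAffine_affineCover X.left i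
  obtain ⟨E, hE, hEm⟩ := exists_standard_mem hR (X.left.affineCover.f i)
  haveI : IsAffine (Over.mk (X.left.affineCover.f i ≫ X.hom)).left := ‹_›
  refine (isSheafFor_standard h1 h2 (X := Over.mk (X.left.affineCover.f i ≫ X.hom)) E hE).isSeparatedFor.ext
    fun V r hr => ?_
  obtain ⟨j⟩ := hr
  show F.map _ (F.map g.op t₁) = F.map _ (F.map g.op t₂)
  rw [← ConcreteCategory.comp_apply, ← ConcreteCategory.comp_apply, ← Functor.map_comp, ← op_comp]
  exact (h₁ _ (hEm j)).trans (h₂ _ (hEm j)).symm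

theorem isVSieveOver_of_isVCover {X : Over S} {P : Presieve X} {E : PreZeroHypercover.{u+1} X.left}
    (hE : HTop.IsVCover E) (he : P.map (Over.forget S) = E.presieve₀) :
    IsVSieveOver (Sieve.generate P) := by
  intro W _ g
  obtain ⟨G, hG, hGm⟩ := HTopLib.isVSieve_of_isVCover hE W g
  refine ⟨G, hG, fun j => ?_⟩
  refine (show Sieve.generate E.presieve₀ ≤ Sieve.overEquiv X (Sieve.generate P) from ?_) _ (hGm j)
  rw [Sieve.generate_le_iff, ← he]
  intro Z q hq
  obtain ⟨hu⟩ := hq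
  rw [Sieve.overEquiv_generate]
  exact Sieve.le_generate _ _ _ ⟨_, _, 𝟙 _, hu, (Category.id_comp _).symm⟩

theorem isVSieveOver_of_standard {X : Over S} [IsAffine X.left] {E : PreZeroHypercover.{u} X.left}
    (hE : HTop.IsStandardV E) :
    IsVSieveOver (Sieve.generate (Presieve.ofArrows (fun j => Over.mk (E.f j ≫ X.hom))
      (fun j => (Over.homMk (E.f j) rfl : Over.mk (E.f j ≫ X.hom) ⟶ X)))) := by
  intro W _ g
  obtain ⟨G, hG, hGm⟩ := HTopLib.isVSieve_of_isVCover (HTopLib.isVCover_of_isStandardV hE) W g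
  refine ⟨G, hG, fun j => ?_⟩
  refine (show Sieve.generate E.presieve₀ ≤ _ from ?_) _ (hGm j)
  rw [Sieve.generate_le_iff, Sieve.overEquiv_generate]
  rintro _ _ ⟨k⟩
  exact Sieve.le_generate _ _ _ ⟨_, _, 𝟙 _, ⟨k⟩, (Category.id_comp _).symm⟩

include h1 h2 in
theorem isSheafFor_vSieve {X : Over S} {R : Sieve X} (hR : IsVSieveOver R) :
    Presieve.IsSheafFor F R.arrows := by
  have haff : ∀ {Y : Over S} [IsAffine Y.left] {R : Sieve Y}, IsVSieveOver R →
      Presieve.IsSheafFor F R.arrows := by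
    intro Y _ R hR
    obtain ⟨E₀, hE₀, hmem⟩ := hR Y.left (𝟙 Y.left)
    obtain ⟨E, hE, he⟩ := HTopLib.exists_isStandardV_family.{0, u} E₀ hE₀
    have hEm : ∀ j, R (Over.homMk (E.f j) rfl : Over.mk (E.f j ≫ Y.hom) ⟶ Y) := fun j => by
      refine (Sieve.overEquiv_iff _ _).1 ?_
      have hj : E₀.presieve₀ (E.f j) := he ▸ ⟨j⟩
      generalize E.X j = Z, E.f j = r at hj
      obtain ⟨k⟩ := hj
      have := hmem k
      rwa [Category.comp_id] at this
    refine Presieve.isSheafFor_subsieve_aux F ?_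
      ((Presieve.isSheafFor_iff_generate _).1 (isSheafFor_standard h1 h2 (X := Y) E hE))
      fun Z f _ => isSeparatedFor_vSieve h1 h2 ((isVSieveOver_of_standard hE).pullback f)
    rintro Z _ ⟨Z', a, _, ⟨j⟩, rfl⟩
    exact R.downward_closed (hEm j) a
  intro x hx
  let 𝒰 := X.left.affineCover
  let U : 𝒰.I₀ → Over S := fun i => Over.mk (𝒰.f i ≫ X.hom)
  let g : ∀ i, U i ⟶ X := fun i => Over.homMk (𝒰.f i) rfl
  have hloc : ∀ i, ∃ t : F.obj (op (U i)), ∀ {Z : Over S} (h : Z ⟶ U i) (hh : R (h ≫ g i)),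
      F.map h.op t = x (h ≫ g i) hh := fun i => by
    haveI : IsAffine (U i).left := Scheme.isAffine_affineCover X.left i
    obtain ⟨t, ht, -⟩ := haff (IsVSieveOver.pullback hR (g i))
      (fun Z h hh => x (h ≫ g i) hh) fun Y₁ Y₂ Z a b f₁ f₂ hf₁ hf₂ hab =>
        hx a b hf₁ hf₂ (by rw [reassoc_of% hab])
    exact ⟨t, fun h hh => ht h hh⟩
  choose t ht using hloc
  obtain ⟨s, hs, hsu⟩ := (Presieve.isSheafFor_arrows_iff _ _).1 (isSheafFor_openCover h1 X 𝒰) t
    fun i j Z a b hab => by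
      refine (isSeparatedFor_vSieve h1 h2 (IsVSieveOver.pullback hR (a ≫ g i))).ext fun Y h hh => ?_
      have hh₁ : R ((h ≫ a) ≫ g i) := by rw [Category.assoc]; exact hh
      have hh₂ : R ((h ≫ b) ≫ g j) := by
        rw [Category.assoc]
        exact (congrArg (fun q => R (h ≫ q)) hab).mp hh
      rw [← ConcreteCategory.comp_apply, ← ConcreteCategory.comp_apply, ← Functor.map_comp,
        ← Functor.map_comp, ← op_comp, ← op_comp, ht i _ hh₁, ht j _ hh₂]
      have e : (h ≫ a) ≫ g i = (h ≫ b) ≫ g j := by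
        rw [Category.assoc, Category.assoc]; exact congrArg (h ≫ ·) hab
      congr 1
  refine ⟨s, fun Z f hf => ?_, fun s' hs' => hsu s' fun i => ?_⟩
  · refine ext_openCover h1 (𝒰.pullback₁ f.left) fun i => ?_
    let P : Over S := Over.mk (pullback.fst f.left (𝒰.f i) ≫ Z.hom)
    let p : P ⟶ Z := Over.homMk (pullback.fst _ _) rfl
    let q : P ⟶ U i := Over.homMk (pullback.snd f.left (𝒰.f i)) (by
      show pullback.snd _ _ ≫ 𝒰.f i ≫ X.hom = pullback.fst _ _ ≫ Z.hom
      rw [← Over.w f, pullback.condition_assoc])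
    have hpq : p ≫ f = q ≫ g i := Over.OverMorphism.ext pullback.condition
    show F.map p.op (F.map f.op s) = F.map p.op (x f hf)
    have hq : R (q ≫ g i) := hpq ▸ R.downward_closed hf p
    have hsi : F.map (g i).op s = t i := hs i
    rw [← ConcreteCategory.comp_apply, ← Functor.map_comp, ← op_comp, hpq, op_comp, Functor.map_comp,
      ConcreteCategory.comp_apply, hsi, ht i q hq]
    have := hx (𝟙 P) p hq hf (by rw [Category.id_comp, hpq])
    simpa using this
  · refine (isSeparatedFor_vSieve h1 h2 (IsVSieveOver.pullback hR (g i))).ext fun Y h hh => ?_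
    rw [← ConcreteCategory.comp_apply, ← Functor.map_comp, ← op_comp]
    exact (hs' _ hh).trans (ht i h hh).symm

include h1 h2 in
theorem isVSheafOver : HTop.IsVSheafOver S F := by
  intro X P hP
  obtain ⟨E, he⟩ := (P.map (Over.forget S)).exists_eq_preZeroHypercover
  rw [he] at hP
  exact (Presieve.isSheafFor_iff_generate _).2
    (isSheafFor_vSieve h1 h2 (isVSieveOver_of_isVCover ((HTop.presieve₀_mem_vPrecoverage_iff E).1 hP) he))

end main

end Groth.Agent.HTopPh.VSheaf
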